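import Cfsg.Agent.Lib.Block.AbelianDefect.Fusion
import Mathlib.GroupTheory.FiniteAbelian.Duality

/-!
# Blocks with abelian defect group and an element fixed by the inertial group (after Watanabe)

For `u ∈ P` fixed by the stabilizer of `(P, e)` the block and the block of `C_G(u)` below it have the
same regular rank and the same number of members.
-/

open Finset MonoidAlgebra
open scoped ComplexConjugate

set_option autoImplicit false
set_option linter.unusedSectionVars false

namespace CfsgLib.Block.AbelianDefect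

open Cfsg CfsgLib.Block
open scoped Pair

universe u

/-- Equal fibre sums from vanishing twisted sums. -/
theorem fibre_sum_eq {R : Type*} [CommGroup R] [Fintype R] {ι : Type*} [Fintype ι] (N : ι → R)
    (a : ι → ℂ) [DecidableEq R] (h : ∀ φ : R →* ℂˣ, φ ≠ 1 → ∑ i, (φ (N i) : ℂ) * a i = 0)
    (w w' : R) :
    ∑ i ∈ Finset.univ.filter (fun i => N i = w), a i =
      ∑ i ∈ Finset.univ.filter (fun i => N i = w'), a i := by
  classical
  have : NeZero ((Monoid.exponent R : ℕ) : ℂ) :=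
    ⟨Nat.cast_ne_zero.mpr Monoid.exponent_ne_zero_of_finite⟩
  have : Finite (R →* ℂˣ) := Nat.finite_of_card_ne_zero (by
    rw [CommGroup.card_monoidHom_of_hasEnoughRootsOfUnity]; exact Nat.card_pos.ne')
  have := Fintype.ofFinite (R →* ℂˣ)
  have hind : ∀ x : R, ∑ φ : R →* ℂˣ, (φ x : ℂ) =
      if x = 1 then (Fintype.card (R →* ℂˣ) : ℂ) else 0 := by
    intro x
    split_ifs with hx
    · simp [hx]
    obtain ⟨φ₀, hφ₀⟩ := CommGroup.exists_apply_ne_one_of_hasEnoughRootsOfUnity R ℂ hx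
    have h1 : (φ₀ x : ℂ) * ∑ φ : R →* ℂˣ, (φ x : ℂ) = ∑ φ : R →* ℂˣ, (φ x : ℂ) := by
      rw [Finset.mul_sum]
      exact Fintype.sum_equiv (Equiv.mulLeft φ₀) _ _ fun φ => by simp
    have h2 : ((φ₀ x : ℂ) - 1) * ∑ φ : R →* ℂˣ, (φ x : ℂ) = 0 := by rw [sub_mul, h1, one_mul, sub_self]
    exact (mul_eq_zero.mp h2).resolve_left (sub_ne_zero.mpr fun h => hφ₀ (Units.val_eq_one.mp h))
  have key : ∀ v : R, (Fintype.card (R →* ℂˣ) : ℂ) *
      ∑ i ∈ Finset.univ.filter (fun i => N i = v), a i = ∑ i, a i := by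
    intro v
    have hl : ∑ φ : R →* ℂˣ, (φ v⁻¹ : ℂ) * ∑ i, (φ (N i) : ℂ) * a i = ∑ i, a i := by
      rw [Finset.sum_eq_single (1 : R →* ℂˣ) (fun φ _ hne => by rw [h φ hne, mul_zero])
        (fun hne => absurd (Finset.mem_univ _) hne)]
      simp
    rw [← hl, Finset.mul_sum, Finset.sum_filter]
    simp only [Finset.mul_sum]
    rw [Finset.sum_comm]
    refine Finset.sum_congr rfl fun i _ => ?_
    simp only [← mul_assoc]
    rw [← Finset.sum_mul, Finset.sum_congr rfl fun φ _ => by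
      rw [← Units.val_mul, ← map_mul], hind (v⁻¹ * N i)]
    simp only [inv_mul_eq_one, eq_comm (a := v)]
    split_ifs <;> simp
  exact mul_left_cancel₀ (Nat.cast_ne_zero.mpr Fintype.card_ne_zero) ((key w).trans (key w').symm)

variable {p : ℕ} {M : Ideal AlgInt} [M.IsMaximal] {G : Type u} [Group G] [Fintype G] [DecidableEq G]
  {B : Set (IrrCharacter G)} {P Q : Subgroup G} {e : Set (IrrCharacter (CQ P))}
  [Fintype (IrrCharacter G)]

/-- The automorphisms induced by the stabilizer have order prime to `p`. -/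
theorem not_dvd_card_range (hM : IsPModular p M) (hmax : IsMaximalBrauerPair p M B P e)
    (hab : ∀ x ∈ P, ∀ y ∈ P, x * y = y * x) {T : Subgroup G}
    (hT : ∀ g, g ∈ T ↔ g ∈ Subgroup.normalizer (P : Set G) ∧ StabilizesBlock (CQ P) e g)
    (φ : T →* MulAut P) (hφ : ∀ (t : T) (v : P), (φ t v : G) = (t : G) * v * (t : G)⁻¹) :
    ¬ p ∣ Nat.card φ.range := by
  classical
  have hpf : Fact p.Prime := ⟨hM.1⟩
  have he := hmax.1.1
  have hPCP : P ≤ CQ P := le_cq hab le_rfl
  have hPT : P ≤ T := fun u hu => (hT u).mpr ⟨Subgroup.le_normalizer hu,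
    (stabilizesBlock_iff hM (Subgroup.le_normalizer hu) he.2).mpr
      (cinv_iff_cj.mp (cinv_self_eG e) u hu)⟩
  obtain ⟨FT, hL, -⟩ := exists_stabilizerBlock hM he hT
  have hdefT : IsDefectGroup p M FT (P.subgroupOf T) := by
    obtain ⟨D, hD⟩ := exists_defectGroup hM hL.block
    obtain ⟨x, hx, hDx⟩ := hL.exists_conj_le hM he hmax Relation.ReflTransGen.refl hD
    have h1 := hL.inf_conjLE hM he he Relation.ReflTransGen.refl hD
    rw [inf_eq_left.mpr hPT] at h1
    refine isDefectGroup_of_conjLE_card hM hL.block hD h1 ?_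
    have h2 := Subgroup.card_le_of_le hDx
    rw [card_cjS, Subgroup.card_map_of_injective Subtype.val_injective] at h2
    rwa [card_subgroupOf_eq hPT]
  intro hdvd
  obtain ⟨⟨_, t, rfl⟩, hq⟩ := exists_prime_orderOf_dvd_card' p hdvd
  rw [← Subgroup.orderOf_coe] at hq
  change orderOf (φ t) = p at hq
  obtain ⟨u', w', huw, -, ⟨a, ha⟩, hw⟩ := exists_isPPart (p := p) hM.1 t
  have huP : (u' : G) ∈ CQ P := by
    have h1 := hL.pElement_le hM he hPT hdefT u'.2 (g := (u' : G))
      (by rw [Subgroup.orderOf_coe, ha])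
    rwa [sup_eq_right.mpr hPCP] at h1
  have hu1 : φ u' = 1 := by
    refine MulEquiv.ext fun v => Subtype.ext ?_
    rw [hφ, MulAut.one_apply, ← (Subgroup.mem_centralizer_iff.mp huP v v.2), mul_inv_cancel_right]
  refine hw ?_
  rw [← huw, map_mul, hu1, one_mul] at hq
  rw [← hq]
  exact orderOf_map_dvd φ w'

/-- The norm map of the stabilizer. -/
theorem exists_norm_hom (hM : IsPModular p M) (hmax : IsMaximalBrauerPair p M B P e)
    (hab : ∀ x ∈ P, ∀ y ∈ P, x * y = y * x) {T : Subgroup G}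
    (hT : ∀ g, g ∈ T ↔ g ∈ Subgroup.normalizer (P : Set G) ∧ StabilizesBlock (CQ P) e g) :
    ∃ (N : P →* P), (∀ t ∈ T, ∀ y z : P, t * (y : G) * t⁻¹ = (z : G) → N z = N y) ∧
      (∀ y : P, (∀ t ∈ T, t * (y : G) * t⁻¹ = (y : G)) → N y = 1 → y = 1) := by
  classical
  have hpf : Fact p.Prime := ⟨hM.1⟩
  letI : CommGroup P := { (inferInstance : Group P) with
    mul_comm := fun a b => Subtype.ext (hab a a.2 b b.2) }
  have hTN : T ≤ Subgroup.normalizer (P : Set G) := fun t ht => ((hT t).mp ht).1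
  set φ : T →* MulAut P := P.normalizerMonoidHom.comp (Subgroup.inclusion hTN) with hφdef
  have hφ : ∀ (t : T) (v : P), (φ t v : G) = (t : G) * v * (t : G)⁻¹ := fun t v => rfl
  have hA := not_dvd_card_range hM hmax hab hT φ hφ
  have := Fintype.ofFinite φ.range
  let N : P →* P :=
    { toFun := fun y => ∏ a : φ.range, (a : MulAut P) y
      map_one' := by simp
      map_mul' := fun y z => by simp [Finset.prod_mul_distrib] }
  refine ⟨N, fun t ht y z hyz => ?_, fun y hfix hN => ?_⟩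
  · have hz : z = φ ⟨t, ht⟩ y := Subtype.ext ((hφ ⟨t, ht⟩ y).trans hyz).symm
    show ∏ a : φ.range, (a : MulAut P) z = ∏ a : φ.range, (a : MulAut P) y
    subst hz
    exact Fintype.prod_equiv (Equiv.mulRight ⟨φ ⟨t, ht⟩, _, rfl⟩) _ _ fun a => rfl
  · have h1 : ∀ a : φ.range, (a : MulAut P) y = y := by
      rintro ⟨_, t, rfl⟩
      exact Subtype.ext ((hφ t y).trans (hfix t t.2))
    have h2 : y ^ Nat.card φ.range = 1 := by
      rw [Nat.card_eq_fintype_card, ← Finset.card_univ, ← Finset.prod_const,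
        ← Finset.prod_congr rfl fun a _ => h1 a]
      exact hN
    obtain ⟨k, hk⟩ := IsPGroup.iff_orderOf.mp hmax.1.1.1 y
    rw [← orderOf_eq_one_iff]
    refine Nat.eq_one_of_dvd_coprimes (Nat.Coprime.pow_left k ((hM.1.coprime_iff_not_dvd).mpr hA))
      (hk ▸ dvd_rfl) (orderOf_dvd_of_pow_eq_one h2)

/-- The weights at the fibres of the norm map. -/
theorem wt_fibre (hM : IsPModular p M) (hmax : IsMaximalBrauerPair p M B P e)
    (hab : ∀ x ∈ P, ∀ y ∈ P, x * y = y * x) [Fintype P] {T : Subgroup G}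
    (hT : ∀ g, g ∈ T ↔ g ∈ Subgroup.normalizer (P : Set G) ∧ StabilizesBlock (CQ P) e g)
    (N : P →* P) (hN : ∀ t ∈ T, ∀ y z : P, t * (y : G) * t⁻¹ = (z : G) → N z = N y)
    [DecidableEq P] (u : P) :
    ∑ v ∈ Finset.univ.filter (fun v => N v = 1), wt hM hmax.1.1 (u * v) =
      ∑ v ∈ Finset.univ.filter (fun v => N v = 1), wt hM hmax.1.1 v := by
  classical
  letI : CommGroup P := { (inferInstance : Group P) with
    mul_comm := fun a b => Subtype.ext (hab a a.2 b b.2) }
  have := Fintype.ofFinite N.range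
  have h := fibre_sum_eq N.rangeRestrict (wt hM hmax.1.1) (fun μ hμ => ?_) (N.rangeRestrict u) 1
  · refine Eq.trans ?_ (h.trans (Finset.sum_congr ?_ fun _ _ => rfl))
    · refine Finset.sum_equiv (Equiv.mulLeft u) (fun v => ?_) fun v _ => rfl
      simp only [Finset.mem_filter, Finset.mem_univ, true_and, Equiv.coe_mulLeft]
      rw [map_mul N.rangeRestrict, mul_eq_left]
      exact ⟨fun h => Subtype.ext h, fun h => congrArg Subtype.val h⟩
    · ext v
      simp only [Finset.mem_filter, Finset.mem_univ, true_and]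
      exact ⟨fun h => congrArg Subtype.val h, fun h => Subtype.ext h⟩
  · have hlam : FusInv hM hmax.1.1 (μ.comp N.rangeRestrict) := fun y z hz => by
      obtain ⟨t, ht, htz⟩ := (mem_fusClass_iff hM hmax hab hT).mp hz
      exact congrArg μ (Subtype.ext (hN t ht y z htz))
    refine sum_weight_eq_zero hM hmax hab hlam fun h1 => hμ (MonoidHom.ext fun r => ?_)
    obtain ⟨y, rfl⟩ := N.rangeRestrict_surjective r
    exact DFunLike.congr_fun h1 y

/-- The class of a fixed element times another. -/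
theorem card_fusClass_mul (hM : IsPModular p M) (hmax : IsMaximalBrauerPair p M B P e)
    (hab : ∀ x ∈ P, ∀ y ∈ P, x * y = y * x) {T : Subgroup G}
    (hT : ∀ g, g ∈ T ↔ g ∈ Subgroup.normalizer (P : Set G) ∧ StabilizesBlock (CQ P) e g)
    {u : P} (hu : ∀ t ∈ T, t * (u : G) * t⁻¹ = (u : G)) (v : P) :
    (fusClass hM hmax.1.1 (u * v)).card = (fusClass hM hmax.1.1 v).card := by
  classical
  refine (Finset.card_equiv (Equiv.mulLeft u) fun z => ?_).symm
  rw [mem_fusClass_iff hM hmax hab hT, mem_fusClass_iff hM hmax hab hT]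
  refine exists_congr fun t => and_congr_right fun ht => ?_
  simp only [Equiv.coe_mulLeft, Subgroup.coe_mul]
  rw [show t * ((u : G) * (v : G)) * t⁻¹ = t * (u : G) * t⁻¹ * (t * (v : G) * t⁻¹) by group, hu t ht]
  exact (mul_right_inj _).symm

omit [Fintype (IrrCharacter G)] in
theorem sup_zpowers_mul (u v : G) :
    Subgroup.zpowers (u * v) ⊔ Subgroup.zpowers u = Subgroup.zpowers v ⊔ Subgroup.zpowers u := by
  refine le_antisymm (sup_le ?_ le_sup_right) (sup_le ?_ le_sup_right) <;> rw [Subgroup.zpowers_le]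
  · exact mul_mem (Subgroup.mem_sup_right (Subgroup.mem_zpowers u))
      (Subgroup.mem_sup_left (Subgroup.mem_zpowers v))
  · simpa only [inv_mul_cancel_left] using mul_mem (inv_mem (Subgroup.mem_sup_right
      (Subgroup.mem_zpowers u) : u ∈ Subgroup.zpowers (u * v) ⊔ Subgroup.zpowers u))
      (Subgroup.mem_sup_left (Subgroup.mem_zpowers (u * v)) :
        u * v ∈ Subgroup.zpowers (u * v) ⊔ Subgroup.zpowers u)

/-- The statement proved by induction on the order of the group. -/
def RankFixed (p : ℕ) (M : Ideal AlgInt) [M.IsMaximal] (n : ℕ) : Prop :=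
  ∀ (H : Type u) [Group H] [Fintype H] [DecidableEq H] [Fintype (IrrCharacter H)],
    Nat.card H ≤ n → ∀ (C : Set (IrrCharacter H)) (R : Subgroup H)
      (d : Set (IrrCharacter (CQ R))), IsMaximalBrauerPair p M C R d →
      (∀ x ∈ R, ∀ y ∈ R, x * y = y * x) → ∀ u ∈ R,
      (∀ t ∈ Subgroup.normalizer (R : Set H), StabilizesBlock (CQ R) d t → Commute t u) →
      ∀ g : Set (IrrCharacter (CQ (Subgroup.zpowers u))),
        SubpairLE p M (Subgroup.zpowers u) g R d → blockRank p g = blockRank p C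

/-- The rank below two elements, by induction. -/
theorem rank_pair (hM : IsPModular p M) {n : ℕ} (hn : RankFixed.{u} p M n)
    (hmax : IsMaximalBrauerPair p M B P e) (hab : ∀ x ∈ P, ∀ y ∈ P, x * y = y * x) {u : P}
    (hu : ∀ t ∈ Subgroup.normalizer (P : Set G), StabilizesBlock (CQ P) e t → Commute t (u : G))
    (v : P) (hlt : Nat.card (CQ (Subgroup.zpowers (v : G))) ≤ n)
    {g₀ : Set (IrrCharacter (CQ (Subgroup.zpowers (v : G) ⊔ Subgroup.zpowers (u : G))))}
    (hg₀ : SubpairLE p M _ g₀ P e) :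
    blockRank p (lowPair hM hmax.1.1 v).2 = blockRank p g₀ := by
  classical
  obtain ⟨b, hb⟩ := exists_eq_pairMk (a := lowPair hM hmax.1.1 v) (Q := Subgroup.zpowers (v : G)) rfl
  have hle : SubpairLE p M (Subgroup.zpowers (v : G)) b P e := by
    have := lowPair_below hM hmax.1.1 v
    rwa [hb] at this
  rw [hb]
  have := Fintype.ofFinite (IrrCharacter (CQ (Subgroup.zpowers (v : G))))
  have hvP := SubpairLE.le hle
  have hPC := le_cq hab hvP
  have hloc := isMaximal_local hM hmax hab hle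
  let u' : CQ (Subgroup.zpowers (v : G)) := ⟨(u : G), hPC u.2⟩
  obtain ⟨g, -, hg⟩ := exists_subpairLE hM hloc.1.1 (Subgroup.zpowers u')
    (Subgroup.zpowers_le.mpr (Subgroup.mem_subgroupOf.mpr u.2 : u' ∈ P.subgroupOf _))
  rw [← hn _ hlt _ _ _ hloc (subgroupOf_comm hab) u' (Subgroup.mem_subgroupOf.mpr u.2)
    (fun t ht hts => ?_) g hg]
  · refine local_rank hM hmax hab hle hg ?_ hg₀
    rw [MonoidHom.map_zpowers]
    rfl
  · have h1 := (local_stabilizes_iff hPC (cq_mono hvP)).mp ⟨ht, hts⟩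
    exact Subtype.ext (hu _ h1.1 h1.2)

theorem rankFixed (hM : IsPModular p M) : ∀ n, RankFixed.{u} p M n := by
  classical
  intro n
  induction n with
  | zero =>
    intro H _ _ _ _ h
    exact absurd h (by simp)
  | succ n ih =>
    intro H _ _ _ _ hcard C R d hmax hab u hu hfix g hg
    obtain ⟨u₀, rfl⟩ : ∃ u₀ : R, (u₀ : H) = u := ⟨⟨u, hu⟩, rfl⟩
    obtain ⟨T, hT⟩ := exists_stab_subgroup hM hmax.1.1.2
    have hfix' : ∀ t ∈ T, t * (u₀ : H) * t⁻¹ = (u₀ : H) := fun t ht => by
      rw [(hfix t ((hT t).mp ht).1 ((hT t).mp ht).2).eq, mul_inv_cancel_right]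
    by_cases htop : CQ (Subgroup.zpowers (u₀ : H)) = ⊤
    · exact rank_below_of_central hM hmax hg htop
    obtain ⟨N, hN, hN1⟩ := exists_norm_hom hM hmax hab hT
    have := Fintype.ofFinite R
    have h := wt_fibre hM hmax hab hT N hN u₀
    set F := Finset.univ.filter (fun v : R => N v = 1) with hF
    have h1F : (1 : R) ∈ F := by simp [hF]
    have hsmall : ∀ x : H, CQ (Subgroup.zpowers x) ≠ ⊤ → Nat.card (CQ (Subgroup.zpowers x)) ≤ n := by
      intro x hx
      have h1 := Subgroup.card_le_card_group (CQ (Subgroup.zpowers x))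
      have h2 : Nat.card (CQ (Subgroup.zpowers x)) ≠ Nat.card H := fun h =>
        hx ((Subgroup.card_eq_iff_eq_top _).mp h)
      omega
    have hrest : ∀ v ∈ F.erase 1, wt hM hmax.1.1 (u₀ * v) = wt hM hmax.1.1 v := by
      intro v hv
      obtain ⟨hv1, hvF⟩ := Finset.mem_erase.mp hv
      have hvN : N v = 1 := (Finset.mem_filter.mp hvF).2
      have hfixv : ¬ ∀ t ∈ T, t * (v : H) * t⁻¹ = (v : H) := fun h => hv1 (hN1 v h hvN)
      have hv' : CQ (Subgroup.zpowers (v : H)) ≠ ⊤ := fun h => hfixv fun t _ => by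
        rw [(mem_cq_zpowers_iff.mp (h.symm ▸ Subgroup.mem_top t : t ∈ CQ _)).eq, mul_inv_cancel_right]
      have huv : CQ (Subgroup.zpowers ((u₀ : H) * (v : H))) ≠ ⊤ := fun h => hfixv fun t ht => by
        have h1 := (mem_cq_zpowers_iff.mp (h.symm ▸ Subgroup.mem_top t : t ∈ CQ _)).eq
        calc t * (v : H) * t⁻¹ = (t * (u₀ : H) * t⁻¹)⁻¹ * (t * ((u₀ : H) * (v : H)) * t⁻¹) := by group
          _ = (v : H) := by rw [hfix' t ht, h1]; group
      have hle : Subgroup.zpowers (v : H) ⊔ Subgroup.zpowers (u₀ : H) ≤ R :=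
        sup_le (Subgroup.zpowers_le.mpr v.2) (Subgroup.zpowers_le.mpr u₀.2)
      obtain ⟨g₁, -, hg₁⟩ := exists_subpairLE hM hmax.1.1 _ hle
      obtain ⟨w, hw⟩ : ∃ w : R, w = u₀ * v := ⟨_, rfl⟩
      have hwc : (w : H) = (u₀ : H) * (v : H) := by rw [hw, Subgroup.coe_mul]
      have heq : Subgroup.zpowers (w : H) ⊔ Subgroup.zpowers (u₀ : H) =
          Subgroup.zpowers (v : H) ⊔ Subgroup.zpowers (u₀ : H) := by
        rw [hwc]; exact sup_zpowers_mul (u₀ : H) (v : H)
      have huv' : CQ (Subgroup.zpowers (w : H)) ≠ ⊤ := by rw [hwc]; exact huv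
      obtain ⟨g₂, -, hg₂⟩ := exists_subpairLE hM hmax.1.1
        (Subgroup.zpowers (w : H) ⊔ Subgroup.zpowers (u₀ : H))
        (sup_le (Subgroup.zpowers_le.mpr w.2) (Subgroup.zpowers_le.mpr u₀.2))
      have hcw : (fusClass hM hmax.1.1 w).card = (fusClass hM hmax.1.1 v).card :=
        hw ▸ card_fusClass_mul hM hmax hab hT (u := u₀) hfix' v
      have h1 := rank_pair hM ih hmax hab (u := u₀) hfix v (hsmall _ hv') hg₁
      have h2 := rank_pair hM ih hmax hab (u := u₀) hfix w (hsmall _ huv') hg₂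
      have h3 := rank_eq_of_eq hM hmax.1.1 heq hg₂ hg₁
      rw [← hw, wt, wt, hcw, h1, h2, h3]
    rw [← Finset.add_sum_erase _ _ h1F, ← Finset.add_sum_erase _ _ h1F, Finset.sum_congr rfl hrest,
      add_left_inj, mul_one, wt, wt] at h
    have hc : (fusClass hM hmax.1.1 u₀).card = (fusClass hM hmax.1.1 1).card := by
      have := card_fusClass_mul hM hmax hab hT (u := u₀) hfix' 1
      rwa [mul_one] at this
    rw [hc, div_left_inj' (Nat.cast_ne_zero.mpr
      (Finset.card_pos.mpr ⟨1, self_mem_fusClass hM hmax.1.1 1⟩).ne'), Nat.cast_inj] at h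
    obtain ⟨b₁, hb₁⟩ := exists_eq_pairMk (a := lowPair hM hmax.1.1 (1 : R))
      (Q := Subgroup.zpowers ((1 : R) : H)) rfl
    have hle1 : SubpairLE p M _ b₁ R d := by
      have := lowPair_below hM hmax.1.1 (1 : R)
      rwa [hb₁] at this
    obtain ⟨bu, hbu⟩ := exists_eq_pairMk (a := lowPair hM hmax.1.1 u₀)
      (Q := Subgroup.zpowers (u₀ : H)) rfl
    have hleu : SubpairLE p M _ bu R d := by
      have := lowPair_below hM hmax.1.1 u₀
      rwa [hbu] at this
    rw [hb₁, hbu] at h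
    rw [SubpairLE.unique hM hmax.1.1 hg hleu, h]
    exact rank_below_of_central hM hmax hle1 (eq_top_iff.mpr fun t _ =>
      mem_cq_zpowers_iff.mpr (Commute.one_right t))

/-- The rank of a block with abelian defect group and of the block below a fixed element. -/
theorem rank_eq_of_fixed (hM : IsPModular p M) (hmax : IsMaximalBrauerPair p M B P e)
    (hab : ∀ x ∈ P, ∀ y ∈ P, x * y = y * x) {u : G} (hu : u ∈ P)
    (hfix : ∀ t ∈ Subgroup.normalizer (P : Set G), StabilizesBlock (CQ P) e t → Commute t u)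
    {g : Set (IrrCharacter (CQ (Subgroup.zpowers u)))}
    (hg : SubpairLE p M (Subgroup.zpowers u) g P e) : blockRank p g = blockRank p B :=
  rankFixed hM (Nat.card G) G le_rfl B P e hmax hab u hu hfix g hg

/-- The numbers of members of a block with abelian defect group and of the block below a fixed
element. -/
theorem card_eq_of_fixed (hM : IsPModular p M) (hmax : IsMaximalBrauerPair p M B P e)
    (hab : ∀ x ∈ P, ∀ y ∈ P, x * y = y * x) {u : G} (hu : u ∈ P)
    (hfix : ∀ t ∈ Subgroup.normalizer (P : Set G), StabilizesBlock (CQ P) e t → Commute t u)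
    {g : Set (IrrCharacter (CQ (Subgroup.zpowers u)))}
    (hg : SubpairLE p M (Subgroup.zpowers u) g P e) : Nat.card g = Nat.card B := by
  classical
  have := Fintype.ofFinite (IrrCharacter (CQ (Subgroup.zpowers u)))
  have huP : Subgroup.zpowers u ≤ P := Subgroup.zpowers_le.mpr hu
  have hPH : P ≤ (CQ (Subgroup.zpowers u)) := le_cq hab huP
  have hloc := isMaximal_local hM hmax hab hg
  obtain ⟨T, hT⟩ := exists_stab_subgroup hM hmax.1.1.2
  have hTH : T ≤ (CQ (Subgroup.zpowers u)) := fun t ht =>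
    mem_cq_zpowers_iff.mpr (hfix t ((hT t).mp ht).1 ((hT t).mp ht).2)
  have hT' : ∀ t : (CQ (Subgroup.zpowers u)), t ∈ T.subgroupOf (CQ (Subgroup.zpowers u)) ↔
      t ∈ Subgroup.normalizer (P.subgroupOf (CQ (Subgroup.zpowers u)) : Set (CQ (Subgroup.zpowers u))) ∧
        StabilizesBlock (CQ (P.subgroupOf (CQ (Subgroup.zpowers u)))) (locE hPH (cq_mono huP) e) t := fun t => by
    rw [Subgroup.mem_subgroupOf, hT, ← local_stabilizes_iff hPH (cq_mono huP)]
  have := Fintype.ofFinite P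
  have := Fintype.ofFinite (P.subgroupOf (CQ (Subgroup.zpowers u)))
  suffices h : (Nat.card g : ℂ) = (Nat.card B : ℂ) from Nat.cast_injective h
  rw [card_eq_sum_wt hM hmax, card_eq_sum_wt hM hloc]
  refine Fintype.sum_equiv (Subgroup.subgroupOfEquivOfLe hPH).toEquiv _ _ fun y' => ?_
  set y : P := Subgroup.subgroupOfEquivOfLe hPH y' with hy
  have hyc : (y : G) = ((y' : (CQ (Subgroup.zpowers u))) : G) := rfl
  show wt hM hloc.1.1 y' = wt hM hmax.1.1 y
  have hf : (fusClass hM hloc.1.1 y').card = (fusClass hM hmax.1.1 y).card := by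
    refine Finset.card_equiv (Subgroup.subgroupOfEquivOfLe hPH).toEquiv fun z => ?_
    rw [mem_fusClass_iff hM hloc (subgroupOf_comm hab) hT', mem_fusClass_iff hM hmax hab hT]
    constructor
    · rintro ⟨t, ht, h⟩
      exact ⟨t, ht, congrArg Subtype.val h⟩
    · rintro ⟨t, ht, h⟩
      exact ⟨⟨t, hTH ht⟩, ht, Subtype.ext h⟩
  rw [wt, wt, hf]
  congr 2
  have hleS : Subgroup.zpowers (y : G) ⊔ Subgroup.zpowers u ≤ P :=
    sup_le (Subgroup.zpowers_le.mpr y.2) huP
  obtain ⟨g₀, -, hg₀⟩ := exists_subpairLE hM hmax.1.1 _ hleS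
  rw [rank_pair hM (rankFixed hM (Nat.card G)) hmax hab (u := ⟨u, hu⟩) hfix y
    (Subgroup.card_le_card_group _) hg₀]
  obtain ⟨b, hb⟩ := exists_eq_pairMk (a := lowPair hM hloc.1.1 y')
    (Q := Subgroup.zpowers ((y' : (CQ (Subgroup.zpowers u))))) rfl
  have hle : SubpairLE p M (Subgroup.zpowers ((y' : (CQ (Subgroup.zpowers u))))) b (P.subgroupOf (CQ (Subgroup.zpowers u)))
      (locE hPH (cq_mono huP) e) := by
    have := lowPair_below hM hloc.1.1 y'
    rwa [hb] at this
  rw [hb]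
  refine local_rank hM hmax hab hg hle ?_ hg₀
  rw [MonoidHom.map_zpowers, sup_comm]
  rfl

end CfsgLib.Block.AbelianDefect
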