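import Cfsg.Agent.Lib.Block.AbelianDefect.Local
import Cfsg.Agent.Lib.Block.StarChar

/-!
# Fusion and weighted sums over an abelian defect group

Fusion in a block with maximal pair `(P, e)`, `P` abelian, is conjugation by the stabilizer `T` of the
pair; the numbers of members fixed by the characters of `P` are sums of ranks of subsections.
-/

open Finset MonoidAlgebra
open scoped ComplexConjugate

set_option autoImplicit false
set_option linter.unusedSectionVars false

namespace CfsgLib.Block.AbelianDefect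

open Cfsg CfsgLib.Block
open scoped Pair

universe u

variable {p : ℕ} {M : Ideal AlgInt} [M.IsMaximal] {G : Type u} [Group G] [Fintype G] [DecidableEq G]
  {B : Set (IrrCharacter G)} {P Q : Subgroup G} {e : Set (IrrCharacter (CQ P))}
  [Fintype (IrrCharacter G)]

/-- Two conjugates of the top pair above the same pair differ by the centralizer. -/
theorem exists_fix_top (hM : IsPModular p M) (hmax : IsMaximalBrauerPair p M B P e)
    (hab : ∀ x ∈ P, ∀ y ∈ P, x * y = y * x) {f : Set (IrrCharacter (CQ Q))}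
    (h : NSub p M Q f P e) {g : G} (h' : NSub p M Q f (cjS g P) (conjBlock P g e)) :
    ∃ w ∈ CQ Q, cjP (w * g) (⟨P, e⟩ : BrauerPairIdx G) = ⟨P, e⟩ := by
  classical
  have hpf : Fact p.Prime := ⟨hM.1⟩
  have := Fintype.ofFinite (IrrCharacter (CQ Q))
  have hPC := le_cq hab h.le
  have hdef := isDefectGroup_below_abelian hM hmax hPC h
  have hf := h.pairL.2
  have hLC := isLocalBlock_self (M := M) (Q := Q) hf
  have hco : ∀ t : CQ Q, blockCoeff f t = subgroupBlockCoeff (CQ Q) f (t : G) := fun t =>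
    (subgroupBlockCoeff_coe f t).symm
  have hPdC : cjS g P ≤ CQ Q := fun u hu => by
    obtain ⟨a, ha, rfl⟩ := hu
    refine Subgroup.mem_centralizer_iff.mpr fun v hv => ?_
    obtain ⟨b, hb, rfl⟩ := h'.le hv
    rw [← map_mul, ← map_mul, hab b hb a ha]
  have hpP := hmax.1.1.1
  have hPdle : ConjLE ((cjS g P).subgroupOf (CQ Q)) (P.subgroupOf (CQ Q)) := by
    refine (hLC.conjLE_iff hM h.pairL hdef
      ((hpP.map _).of_equiv (Subgroup.subgroupOfEquivOfLe hPdC).symm)).mpr ?_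
    rw [Subgroup.map_subgroupOf_eq_of_le hPdC, sup_eq_right.mpr h'.le]
    exact ⟨_, h'⟩
  obtain ⟨c0, hc0⟩ := hPdle
  have hback : cjS (c0 : G) (cjS g P) = P := by
    refine Subgroup.eq_of_le_of_card_ge ?_ (by rw [card_cjS, card_cjS])
    rintro _ ⟨u, hu, rfl⟩
    exact hc0 ⟨⟨u, hPdC hu⟩, hu, rfl⟩
  set y := (c0 : G) * g with hy
  have hyP : cjS y P = P := by rw [hy, ← cjS_cjS, hback]
  have hc0f : cjP (c0 : G) (⟨Q, f⟩ : BrauerPairIdx G) = ⟨Q, f⟩ :=
    cjP_eq_of_stabilizes hM (centralizer_le_normalizer' Q c0.2) hf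
      ((stabilizesBlock_iff hM (centralizer_le_normalizer' Q c0.2) hf).mpr
        (cinv_iff_cj.mp (cinv_eG f) _ c0.2))
  have hyN := mem_normalizer_of_cjS_eq hyP
  have hyc : cjP y (⟨P, e⟩ : BrauerPairIdx G) = ⟨P, conjSet y (CQ P) (CQ P) e⟩ :=
    cjP_eq_of_mem hM hyN hmax.1.1.2
  have h2 : NSub p M (cjP (c0 : G) (⟨Q, f⟩ : BrauerPairIdx G)).1
      (cjP (c0 : G) (⟨Q, f⟩ : BrauerPairIdx G)).2
      (cjP (c0 : G) (cjP g (⟨P, e⟩ : BrauerPairIdx G))).1
      (cjP (c0 : G) (cjP g (⟨P, e⟩ : BrauerPairIdx G))).2 := h'.conj hM (c0 : G)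
  rw [hc0f, cjP_cjP hM _ _ hmax.1.1.2, ← hy, hyc] at h2
  obtain ⟨n, hn, hne⟩ := hLC.exists_conj_defect hM hco hPC hdef h2 h
  refine ⟨n * (c0 : G), mul_mem hn c0.2, ?_⟩
  rw [mul_assoc, ← hy, ← cjP_cjP hM _ _ hmax.1.1.2, hyc, hne]

/-- Fusion in the abelian case. -/
theorem mem_fusClass_iff (hM : IsPModular p M) (hmax : IsMaximalBrauerPair p M B P e)
    (hab : ∀ x ∈ P, ∀ y ∈ P, x * y = y * x) {T : Subgroup G}
    (hT : ∀ g, g ∈ T ↔ g ∈ Subgroup.normalizer (P : Set G) ∧ StabilizesBlock (CQ P) e g) {y z : P} :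
    z ∈ fusClass hM hmax.1.1 y ↔ ∃ t ∈ T, t * (y : G) * t⁻¹ = (z : G) := by
  classical
  have he := hmax.1.1
  constructor
  · intro hz
    obtain ⟨g, hg, hgl⟩ := (mem_fusClass hM hmax.1.1).mp hz
    obtain ⟨f, hf⟩ := exists_eq_pairMk (a := lowPair hM hmax.1.1 z) (Q := Subgroup.zpowers (z : G)) rfl
    have hlez : SubpairLE p M (Subgroup.zpowers (z : G)) f P e := by
      have := lowPair_below hM hmax.1.1 z
      rwa [hf] at this
    have h1 : NSub p M (cjP g (lowPair hM hmax.1.1 y)).1 (cjP g (lowPair hM hmax.1.1 y)).2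
        (cjS g P) (conjBlock P g e) := by
      obtain ⟨f', hf'⟩ := exists_eq_pairMk (a := lowPair hM hmax.1.1 y)
        (Q := Subgroup.zpowers (y : G)) rfl
      have hley : SubpairLE p M (Subgroup.zpowers (y : G)) f' P e := by
        have := lowPair_below hM hmax.1.1 y
        rwa [hf'] at this
      rw [hf']
      exact (nSub_of_le hM hmax.1.1 hab hley).conj hM g
    rw [hgl, hf] at h1
    obtain ⟨w, hw, hfix⟩ := exists_fix_top hM hmax hab (nSub_of_le hM hmax.1.1 hab hlez) h1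
    refine ⟨w * g, (hT _).mpr (stabilizesBlock_of_cjP_eq hM he.2 hfix), ?_⟩
    rw [show w * g * (y : G) * (w * g)⁻¹ = w * (g * (y : G) * g⁻¹) * w⁻¹ by group, hg,
      (mem_cq_zpowers_iff.mp hw).eq, mul_inv_cancel_right]
  · rintro ⟨t, htT, ht⟩
    obtain ⟨htN, htS⟩ := (hT t).mp htT
    refine (mem_fusClass hM hmax.1.1).mpr ⟨t, ht,
      below_ext hM hmax.1.1 (below_conj hM (lowPair_below hM hmax.1.1 y) ?_)
        (lowPair_below hM hmax.1.1 z) ?_⟩
    · exact cjP_eq_of_stabilizes hM htN he.2 htS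
    · show cjS t (Subgroup.zpowers (y : G)) = Subgroup.zpowers (z : G)
      rw [cjS_zpowers, ht]

open scoped Classical in
/-- The weight of an element: the rank of its subsection over the size of its class. -/
noncomputable def wt (hM : IsPModular p M) (he : IsBrauerPair p M P e) (y : P) : ℂ :=
  (blockRank p (lowPair hM he y).2 : ℂ) / ((fusClass hM he y).card : ℂ)

open scoped Classical in
/-- The trace of a weighted expansion on the members of a block. -/
theorem sum_weight (hM : IsPModular p M) (hmax : IsMaximalBrauerPair p M B P e) [Fintype P]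
    {lam : P →* ℂˣ} (hlam : FusInv hM hmax.1.1 lam) (θ : IrrCharacter G → IrrCharacter G)
    (hθ : ∀ χ ∈ B, (θ χ : G → ℂ) = starFun hM (starW hM hmax.1.1 lam) χ)
    (hθB : ∀ χ ∈ B, θ χ ∈ B) :
    ∑ y : P, (lam y : ℂ) * wt hM hmax.1.1 y =
      ∑ χ ∈ Finset.univ.filter (· ∈ B), if θ χ = χ then 1 else 0 := by
  classical
  have hpf : Fact p.Prime := ⟨hM.1⟩
  have key : ∀ χ ∈ B, ∀ y : P, secSum p (θ χ) χ (y : G) (lowPair hM hmax.1.1 y) =
      (lam y : ℂ) * secSum p χ χ (y : G) (lowPair hM hmax.1.1 y) := by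
    intro χ hχ y
    rw [secSum_eq_sum_regC rfl, secSum_eq_sum_regC rfl, Finset.mul_sum]
    refine Finset.sum_congr rfl fun s hs => ?_
    rw [secPart_starFun hM (hθ χ hχ) (exists_pElement_orderOf hmax.1.1 y hM.1)
      (mem_pairsAt.mpr ⟨lowPair_fst hM hmax.1.1 y, isPBlock_lowPair hM hmax.1.1 y⟩) hs,
      starW_eq hM hmax.1.1 hlam (x := 1) (u := (y : G)) (a := lowPair hM hmax.1.1 y) (by group)
        (cjP_one hM (isPBlock_lowPair hM hmax.1.1 y)), mul_assoc]
  refine Eq.trans ?_ (Finset.sum_congr rfl fun χ hχ => sum_secSum_fused hM hmax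
    (hθB χ (Finset.mem_filter.mp hχ).2) (Finset.mem_filter.mp hχ).2)
  refine Eq.trans ?_ Finset.sum_comm
  refine Finset.sum_congr rfl fun y _ => ?_
  rw [Finset.sum_congr rfl (g := fun χ => (lam y : ℂ) *
      secSum p χ χ (y : G) (lowPair hM hmax.1.1 y) /
        ((Nat.card (CQ (Subgroup.zpowers (y : G))) : ℂ) * ((fusClass hM hmax.1.1 y).card : ℂ)))
      fun χ hχ => by rw [key χ (Finset.mem_filter.mp hχ).2 y],
    ← Finset.sum_div, ← Finset.mul_sum, sum_secSum_eq_rank hM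
      (exists_pElement_orderOf hmax.1.1 y hM.1) (lowPair_fst hM hmax.1.1 y)
      (lowPair_pairOf hM hmax y), wt]
  have hC : (Nat.card (CQ (Subgroup.zpowers (y : G))) : ℂ) ≠ 0 := Nat.cast_ne_zero.mpr Nat.card_pos.ne'
  have hF : ((fusClass hM hmax.1.1 y).card : ℂ) ≠ 0 := Nat.cast_ne_zero.mpr
    (Finset.card_pos.mpr ⟨y, self_mem_fusClass hM hmax.1.1 y⟩).ne'
  rw [show CQ (lowPair hM hmax.1.1 y).1 = CQ (Subgroup.zpowers (y : G)) from rfl]
  field_simp

open scoped Classical in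
/-- The number of members as a sum of weights. -/
theorem card_eq_sum_wt (hM : IsPModular p M) (hmax : IsMaximalBrauerPair p M B P e) [Fintype P] :
    (Nat.card B : ℂ) = ∑ y : P, wt hM hmax.1.1 y := by
  have hlam : FusInv hM hmax.1.1 (1 : P →* ℂˣ) := fun _ _ _ => rfl
  have h := sum_weight hM hmax hlam id (fun χ _ => by
    rw [starW_one hM hmax.1.1, starFun_one]; rfl) fun χ h => h
  rw [Nat.card_eq_fintype_card (α := B), Fintype.card_subtype]
  simpa using h.symm

/-- For an abelian defect group a non-trivial weight has trace zero. -/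
theorem sum_weight_eq_zero (hM : IsPModular p M) (hmax : IsMaximalBrauerPair p M B P e)
    (hab : ∀ x ∈ P, ∀ y ∈ P, x * y = y * x) [Fintype P]
    {lam : P →* ℂˣ} (hlam : FusInv hM hmax.1.1 lam) (hne : lam ≠ 1) :
    ∑ y : P, (lam y : ℂ) * wt hM hmax.1.1 y = 0 := by
  classical
  have hst : ∀ χ : IrrCharacter G, ∃ θ : IrrCharacter G,
      (θ : G → ℂ) = starFun hM (starW hM hmax.1.1 lam) χ ∧ (θ : G → ℂ) 1 = (χ : G → ℂ) 1 ∧
        ∀ B' : Set (IrrCharacter G), IsPBlock M B' → χ ∈ B' → θ ∈ B' := fun χ =>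
    exists_starIrr hM (isWeight_starW hM hmax hlam) (starW_mul_conj hM hmax.1.1 lam) χ
  choose θ hθ _ hθB using hst
  rw [sum_weight hM hmax hlam θ (fun χ _ => hθ χ) fun χ h => hθB χ B hmax.1.2.1 h]
  refine Finset.sum_eq_zero fun χ hχ => if_neg fun heq => hne (MonoidHom.ext fun y => ?_)
  have hy : y ∈ Subgroup.center P :=
    Subgroup.mem_center_iff.mpr fun x => Subtype.ext (hab x x.2 y y.2)
  obtain ⟨s, hs, hsne⟩ := exists_secPart_ne_zero_of_center hM hmax (Finset.mem_filter.mp hχ).2 hy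
  have h1 := eq_one_of_starFun_eq hM (w := starW hM hmax.1.1 lam)
    (by rw [← hθ, heq]) (exists_pElement_orderOf hmax.1.1 y hM.1)
    (mem_pairsAt.mpr ⟨lowPair_fst hM hmax.1.1 y, isPBlock_lowPair hM hmax.1.1 y⟩) hs hsne
  rw [starW_eq hM hmax.1.1 hlam (x := 1) (u := (y : G)) (a := lowPair hM hmax.1.1 y) (by group)
    (cjP_one hM (isPBlock_lowPair hM hmax.1.1 y))] at h1
  exact Units.val_eq_one.mp h1

end CfsgLib.Block.AbelianDefect
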