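import Cfsg.Agent.Lib.Block.CyclicPairs
import Cfsg.Agent.Lib.Block.FusionSat
import Cfsg.Agent.Lib.Block.NilpotentLocal
import Cfsg.Agent.Lib.Block.LocalDefect
import Cfsg.Agent.Lib.Block.ChainCount

/-!
# Blocks below a maximal pair with abelian group

Below a maximal pair `(P, e)` with abelian `P` the block of `C_G(Q)` has the pair coming from `(P, e)`
as a maximal pair, with the stabilizer meeting `C_G(Q)` as stabilizer; pairs below it are pairs of the
whole group.
-/

open Finset MonoidAlgebra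
open scoped ComplexConjugate

set_option autoImplicit false
set_option linter.unusedSectionVars false

namespace CfsgLib.Block.AbelianDefect

open Cfsg CfsgLib.Block
open scoped Pair

universe u

variable {p : ℕ} {M : Ideal AlgInt} [M.IsMaximal] {G : Type u} [Group G] [Fintype G] [DecidableEq G]
  {B : Set (IrrCharacter G)} {P Q : Subgroup G} {e : Set (IrrCharacter (CQ P))}
  {f : Set (IrrCharacter (CQ Q))} [Fintype (IrrCharacter G)]

theorem le_cq (hab : ∀ x ∈ P, ∀ y ∈ P, x * y = y * x) (hQP : Q ≤ P) : P ≤ CQ Q := fun u hu =>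
  Subgroup.mem_centralizer_iff.mpr fun v hv => hab v (hQP hv) u hu

/-- Below an abelian top an inclusion of pairs is normal. -/
theorem nSub_of_le (hM : IsPModular p M) (he : IsBrauerPair p M P e)
    (hab : ∀ x ∈ P, ∀ y ∈ P, x * y = y * x) (hle : SubpairLE p M Q f P e) : NSub p M Q f P e := by
  have hQP := SubpairLE.le hle
  obtain ⟨g, hg, hge⟩ := SubpairLE.exists_nSub_mid hM he hle hQP le_rfl
    ((le_cq hab hQP).trans (centralizer_le_normalizer' _))
  exact SubpairLE.eq_of_eq hM hge ▸ hg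

/-- Induction of blocks along an injective homomorphism. -/
theorem isInducedBlockIn_map {G₁ G₂ : Type u} [Group G₁] [Group G₂] (ι : G₁ →* G₂)
    (hι : Function.Injective ι) {H₁ K₁ : Subgroup G₁} {H₂ K₂ : Subgroup G₂} (κH : H₁ ≃* H₂)
    (κK : K₁ ≃* K₂) (hH : ∀ h : H₁, (κH h : G₂) = ι h) (hK : ∀ k : K₁, (κK k : G₂) = ι k)
    {d : Set (IrrCharacter K₁)} {c : Set (IrrCharacter H₁)} (h : IsInducedBlockIn M H₁ K₁ d c) :
    IsInducedBlockIn M H₂ K₂ (irrEquiv κK '' d) (irrEquiv κH '' c) := by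
  refine ⟨isPBlock_image_irrEquiv _ h.1, isPBlock_image_irrEquiv _ h.2.1, ?_⟩
  rintro _ ⟨ξ, hξ, rfl⟩ _ ⟨χ, hχ, rfl⟩ h'
  obtain ⟨h₀, rfl⟩ := κH.surjective h'
  rw [centralChar_irrEquiv]
  convert h.2.2 ξ hξ χ hχ h₀ using 2
  rw [inducedCentralCharIn, inducedCentralCharIn]
  refine finsum_mem_eq_of_bijOn κK.symm ⟨fun k hk => ?_, κK.symm.injective.injOn, fun k hk => ?_⟩
    fun k _ => by simp [irrEquiv_apply]
  · obtain ⟨x, hx⟩ := hk
    refine ⟨κH.symm x, hι ?_⟩
    have h1 : ι (κH.symm x : G₁) = (x : G₂) := by rw [← hH, MulEquiv.apply_symm_apply]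
    have h2 : ι (κK.symm k : G₁) = (k : G₂) := by rw [← hK, MulEquiv.apply_symm_apply]
    rw [map_mul, map_mul, map_inv, h1, h2, hx, hH]
  · obtain ⟨x, hx⟩ := hk
    refine ⟨κK k, ⟨κH x, ?_⟩, κK.symm_apply_apply k⟩
    rw [hH, hH, hK, ← map_inv, ← map_mul, ← map_mul, hx]

/-- The pair of `C_G(Q)` that corresponds to `(P, e)`. -/
noncomputable def locE (hPC : P ≤ CQ Q) (hC : CQ P ≤ CQ Q) (e : Set (IrrCharacter (CQ P))) :
    Set (IrrCharacter (CQ (P.subgroupOf (CQ Q)))) :=
  irrEquiv (cqInT hC hPC) '' e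

/-- The pair coming from `(P, e)` is a maximal pair of the block below it. -/
theorem isMaximal_local (hM : IsPModular p M) (hmax : IsMaximalBrauerPair p M B P e)
    (hab : ∀ x ∈ P, ∀ y ∈ P, x * y = y * x) (hle : SubpairLE p M Q f P e) :
    IsMaximalBrauerPair p M f (P.subgroupOf (CQ Q))
      (locE (le_cq hab (SubpairLE.le hle)) (cq_mono (SubpairLE.le hle)) e) := by
  classical
  have := Fintype.ofFinite (IrrCharacter (CQ Q))
  have hns := nSub_of_le hM hmax.1.1 hab hle
  exact isMaximal_of_defect hM (isDefectGroup_below_abelian hM hmax (le_cq hab hns.le) hns)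
    (isBrauerPairOf_inT hM hns.pairL.2 hns.pairL.2 (fun t => (subgroupBlockCoeff_coe f t).symm) _ _
      hns)

theorem subgroupOf_comm {H : Subgroup G} (hab : ∀ x ∈ P, ∀ y ∈ P, x * y = y * x) :
    ∀ x ∈ P.subgroupOf H, ∀ y ∈ P.subgroupOf H, x * y = y * x :=
  fun x hx y hy => Subtype.ext (hab x hx y hy)

/-- Normalizing `P` inside `C_G(Q)`. -/
theorem mem_normalizer_local {H : Subgroup G} (hPH : P ≤ H) {t : H} :
    t ∈ Subgroup.normalizer (P.subgroupOf H : Set H) ↔
      (t : G) ∈ Subgroup.normalizer (P : Set G) := by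
  simp only [Subgroup.mem_normalizer_iff, Subgroup.mem_subgroupOf, Subgroup.coe_mul,
    Subgroup.coe_inv]
  refine ⟨fun h w => ⟨fun hw => (h ⟨w, hPH hw⟩).mp hw, fun hw => ?_⟩, fun h w => h w⟩
  have hwH : w ∈ H := by
    have := H.mul_mem (H.mul_mem (H.inv_mem t.2) (hPH hw)) t.2
    simpa [mul_assoc] using this
  exact (h ⟨w, hwH⟩).mpr hw

/-- The stabilizer of the local pair. -/
theorem local_stabilizes_iff {t : CQ Q} (hPC : P ≤ CQ Q) (hC : CQ P ≤ CQ Q) :
    (t ∈ Subgroup.normalizer (P.subgroupOf (CQ Q) : Set (CQ Q)) ∧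
      StabilizesBlock (CQ (P.subgroupOf (CQ Q))) (locE hPC hC e) t) ↔
    ((t : G) ∈ Subgroup.normalizer (P : Set G) ∧ StabilizesBlock (CQ P) e (t : G)) := by
  rw [mem_normalizer_local hPC]
  refine and_congr_right fun hN => ?_
  have hN' := (mem_normalizer_local hPC).mpr hN
  constructor
  · rintro ⟨-, h⟩
    refine ⟨Subgroup.mem_normalizer_iff.mpr (cq_conj_iff hN), fun χ hχ => ?_⟩
    obtain ⟨_, ⟨χ', hχ', rfl⟩, hc⟩ := h _ ⟨χ, hχ, rfl⟩
    refine ⟨χ', hχ', fun k k' hk => ?_⟩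
    have h1 := hc (cqInT hC hPC k) (cqInT hC hPC k') (Subtype.ext hk)
    simpa using h1
  · rintro ⟨-, h⟩
    refine ⟨Subgroup.mem_normalizer_iff.mpr (cq_conj_iff hN'), ?_⟩
    rintro _ ⟨χ, hχ, rfl⟩
    obtain ⟨χ', hχ', hc⟩ := h χ hχ
    refine ⟨_, ⟨χ', hχ', rfl⟩, fun k k' hk => ?_⟩
    obtain ⟨k, rfl⟩ := (cqInT hC hPC).surjective k
    obtain ⟨k', rfl⟩ := (cqInT hC hPC).surjective k'
    simp only [irrEquiv_apply, MulEquiv.symm_apply_apply]
    exact hc k k' (congrArg Subtype.val hk)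

/-- A pair below the local pair has the rank of the pair of the whole group. -/
theorem local_rank (hM : IsPModular p M) (hmax : IsMaximalBrauerPair p M B P e)
    (hab : ∀ x ∈ P, ∀ y ∈ P, x * y = y * x) (hle : SubpairLE p M Q f P e)
    {R : Subgroup (CQ Q)} {g : Set (IrrCharacter (CQ R))}
    (hg : SubpairLE p M R g (P.subgroupOf (CQ Q))
      (locE (le_cq hab (SubpairLE.le hle)) (cq_mono (SubpairLE.le hle)) e))
    {S : Subgroup G} (hS : Q ⊔ R.map (CQ Q).subtype = S) {g₀ : Set (IrrCharacter (CQ S))}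
    (hg₀ : SubpairLE p M S g₀ P e) : blockRank p g = blockRank p g₀ := by
  classical
  subst hS
  have hQP := SubpairLE.le hle
  have hRP : R ≤ P.subgroupOf (CQ Q) := SubpairLE.le hg
  have := Fintype.ofFinite (IrrCharacter (CQ Q))
  have hloc := isMaximal_local hM hmax hab hle
  have hPR : P.subgroupOf (CQ Q) ≤ CQ R := le_cq (subgroupOf_comm hab) hRP
  have h1 := isInducedBlockIn_of_nSub hM
    (nSub_of_le hM hloc.1.1 (subgroupOf_comm hab) hg) hPR
  have h2 := isInducedBlockIn_map (CQ Q).subtype Subtype.val_injective (cqEquiv R)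
    (cqInT (cq_mono hQP) (le_cq hab hQP)).symm (fun _ => rfl) (fun _ => rfl) h1
  have himg : irrEquiv (cqInT (cq_mono hQP) (le_cq hab hQP)).symm ''
      locE (le_cq hab hQP) (cq_mono hQP) e = e := by
    rw [locE, Set.image_image]
    convert Set.image_id e with χ hχ
    exact Subtype.ext (funext fun k => by simp)
  rw [himg] at h2
  have hns := nSub_of_le hM hmax.1.1 hab hg₀
  have h3 := isInducedBlockIn_of_nSub hM hns (le_cq hab hns.le)
  rw [inducedBlockIn_unique (cq_mono hns.le) h3 h2, ChainCount.blockRank_image_irrEquiv]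

/-- Blocks below equal groups. -/
theorem rank_eq_of_eq (hM : IsPModular p M) (he : IsBrauerPair p M P e) {S S' : Subgroup G}
    (h : S = S') {g : Set (IrrCharacter (CQ S))} {g' : Set (IrrCharacter (CQ S'))}
    (hg : SubpairLE p M S g P e) (hg' : SubpairLE p M S' g' P e) :
    blockRank p g = blockRank p g' := by
  subst h
  rw [SubpairLE.unique hM he hg hg']

/-- The rank of the block below the trivial group. -/
theorem rank_below_of_central (hM : IsPModular p M) (hmax : IsMaximalBrauerPair p M B P e)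
    (hle : SubpairLE p M Q f P e) (htop : CQ Q = ⊤) : blockRank p f = blockRank p B := by
  classical
  have := Fintype.ofFinite (IrrCharacter G)
  have := Fintype.ofFinite (IrrCharacter (CQ Q))
  let φ : CQ Q ≃* G := (MulEquiv.subgroupCongr htop).trans Subgroup.topEquiv
  have hφ : ∀ t : CQ Q, φ t = (t : G) := fun _ => rfl
  have hQ : IsPGroup p Q := (SubpairLE.isBrauerPairOf_iff hM hle).mp hmax.1 |>.1.1
  have hpair := (SubpairLE.isBrauerPairOf_iff hM hle).mp hmax.1
  have hQC : Q ≤ CQ Q := htop ▸ le_top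
  have hind := (isBrauerPairOf_iff_induced hM hmax.1.2.1 hQ hQC).mp hpair
  suffices irrEquiv φ '' f = B by rw [← this, ChainCount.blockRank_image_irrEquiv]
  obtain ⟨hf, hB, hω⟩ := hind
  obtain ⟨ξ, hξ⟩ := isPBlock_nonempty hf
  obtain ⟨χ, hχ⟩ := isPBlock_nonempty hB
  refine isPBlock_eq_of_mem (isPBlock_image_irrEquiv φ hf) hB ⟨ξ, hξ, rfl⟩
    ((isPBlock_sameBlock hB hχ).mpr fun x => ?_)
  obtain ⟨t, rfl⟩ := φ.surjective x
  have h1 := hω ξ hξ χ hχ (φ t)
  rw [centralChar_irrEquiv]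
  have hi : indFun (CQ Q) (ξ : CQ Q → ℂ) = (irrEquiv φ ξ : G → ℂ) := by
    funext g
    have hx : ∀ x : G, extendByZero (CQ Q) (ξ : CQ Q → ℂ) (x⁻¹ * g * x) =
        (irrEquiv φ ξ : G → ℂ) g := fun x => by
      rw [Char.extendByZero_mem _ _ (htop ▸ Subgroup.mem_top _ : x⁻¹ * g * x ∈ CQ Q),
        ← Char.isClassFunction_irr (irrEquiv φ ξ) g x⁻¹, inv_inv, irrEquiv_apply]
      exact congrArg _ (φ.injective (by rw [hφ, MulEquiv.apply_symm_apply]))
    rw [indFun, Finset.sum_congr rfl fun x _ => hx x, Finset.sum_const, Finset.card_univ,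
      nsmul_eq_mul, ← Nat.card_eq_fintype_card, Nat.card_congr φ.toEquiv, ← mul_assoc,
      inv_mul_cancel₀ (Nat.cast_ne_zero.mpr Nat.card_pos.ne'), one_mul]
  obtain ⟨d, hd, hd1⟩ := Char.isIrrCharacter_degree ξ.2
  have h2 : inducedCentralChar (CQ Q) (ξ : CQ Q → ℂ) (φ t) = centralChar (ξ : CQ Q → ℂ) t := by
    rw [inducedCentralChar_eq_centralChar_indFun _ (by rw [hd1]; exact_mod_cast hd.ne'), hi,
      centralChar_irrEquiv]
  rw [h2] at h1
  simpa only [neg_sub] using memLocalIdeal_neg h1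

end CfsgLib.Block.AbelianDefect
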